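import Groth.Agent.PLie.Exist
import Mathlib.Algebra.DualNumber
import Mathlib.LinearAlgebra.Basis.Basic
import Mathlib.Tactic.Module

/-! Three-dimensional Lie algebras: coordinates for the computation of `p`-th powers of `ad`. -/

universe u v

namespace Groth.Agent.PLie.Dim3

variable {R : Type u} [CommRing R] {L : Type v} [LieRing L] [LieAlgebra R L]
variable (bs : Module.Basis (Fin 3) R L)

/-- the element with given coordinates -/
noncomputable def vec (α β γ : R) : L := α • bs 0 + β • bs 1 + γ • bs 2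

theorem vec_repr (v : L) : vec bs (bs.repr v 0) (bs.repr v 1) (bs.repr v 2) = v := by
  conv_rhs => rw [← bs.sum_repr v, Fin.sum_univ_three]
  rfl

theorem vec_inj {α β γ α' β' γ' : R} :
    vec bs α β γ = vec bs α' β' γ' ↔ α = α' ∧ β = β' ∧ γ = γ' := by
  refine ⟨fun h => ?_, fun ⟨h1, h2, h3⟩ => by rw [h1, h2, h3]⟩
  have e : ∀ α β γ : R, (bs.repr (vec bs α β γ) 0, bs.repr (vec bs α β γ) 1,
      bs.repr (vec bs α β γ) 2) = (α, β, γ) := fun α β γ => by simp [vec, Finsupp.single_apply]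
  have := e α β γ
  rw [h, e α' β' γ'] at this
  simp only [Prod.mk.injEq] at this
  exact ⟨this.1.symm, this.2.1.symm, this.2.2.symm⟩

theorem basis_zero : bs 0 = vec bs 1 0 0 := by simp [vec]
theorem basis_one : bs 1 = vec bs 0 1 0 := by simp [vec]
theorem basis_two : bs 2 = vec bs 0 0 1 := by simp [vec]
theorem zero_eq : (0 : L) = vec bs 0 0 0 := by simp [vec]

variable {p1 q1 r1 p2 q2 r2 p3 q3 r3 : R}
  (h01 : ⁅bs 0, bs 1⁆ = p1 • bs 0 + q1 • bs 1 + r1 • bs 2)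
  (h02 : ⁅bs 0, bs 2⁆ = p2 • bs 0 + q2 • bs 1 + r2 • bs 2)
  (h12 : ⁅bs 1, bs 2⁆ = p3 • bs 0 + q3 • bs 1 + r3 • bs 2)

include h01 h02 h12 in
theorem lie_vec (α β γ α' β' γ' : R) : ⁅vec bs α β γ, vec bs α' β' γ'⁆ =
    vec bs ((α * β' - β * α') * p1 + (α * γ' - γ * α') * p2 + (β * γ' - γ * β') * p3)
      ((α * β' - β * α') * q1 + (α * γ' - γ * α') * q2 + (β * γ' - γ * β') * q3)
      ((α * β' - β * α') * r1 + (α * γ' - γ * α') * r2 + (β * γ' - γ * β') * r3) := by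
  have h10 : ⁅bs 1, bs 0⁆ = -(p1 • bs 0 + q1 • bs 1 + r1 • bs 2) := by rw [← lie_skew, h01]
  have h20 : ⁅bs 2, bs 0⁆ = -(p2 • bs 0 + q2 • bs 1 + r2 • bs 2) := by rw [← lie_skew, h02]
  have h21 : ⁅bs 2, bs 1⁆ = -(p3 • bs 0 + q3 • bs 1 + r3 • bs 2) := by rw [← lie_skew, h12]
  simp only [vec, add_lie, lie_add, smul_lie, lie_smul, lie_self, h01, h02, h12, h10, h20, h21,
    smul_zero, smul_neg]
  module

theorem end_ext {f g : Module.End R L} (h0 : f (vec bs 1 0 0) = g (vec bs 1 0 0))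
    (h1 : f (vec bs 0 1 0) = g (vec bs 0 1 0)) (h2 : f (vec bs 0 0 1) = g (vec bs 0 0 1)) : f = g := by
  refine bs.ext fun i => ?_
  fin_cases i
  · simpa [vec] using h0
  · simpa [vec] using h1
  · simpa [vec] using h2

end Groth.Agent.PLie.Dim3
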