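import Groth.Agent.PLie.Jacobson

/-! Existence and uniqueness of `p`-maps with prescribed values on a basis. -/

universe u v w

namespace Groth.Agent.PLie.Exist

open Groth.Agent.PLie.Jacobson

attribute [local instance 100] LieRing.ofAssociativeRing

variable (R : Type u) [CommRing R] (p : ℕ) [CharP R p] [Fact p.Prime]
variable {L : Type v} [LieRing L] [LieAlgebra R L]

theorem ad_jac (a b : L) : LieAlgebra.ad R L (_root_.PLie.jacobson R p a b) =
    LieAlgebra.ad R L a ^ p + LieAlgebra.ad R L b ^ p - LieAlgebra.ad R L (a + b) ^ p := by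
  rw [jac_map, map_add, add_pow_char' R p (A := Module.End R L)]
  exact (sub_sub_cancel _ _).symm

variable (L) in
/-- the extension of `L` by itself defined by Jacobson's cocycle -/
@[ext] structure Ext (R : Type u) (p : ℕ) where
  /-- element -/
  fst : L
  /-- value -/
  snd : L

instance : Zero (Ext L R p) := ⟨⟨0, 0⟩⟩
noncomputable instance : Add (Ext L R p) :=
  ⟨fun g h => ⟨g.fst + h.fst, g.snd + h.snd - _root_.PLie.jacobson R p g.fst h.fst⟩⟩
instance : Neg (Ext L R p) := ⟨fun g => ⟨-g.fst, -g.snd⟩⟩
instance : SMul R (Ext L R p) := ⟨fun c g => ⟨c • g.fst, c ^ p • g.snd⟩⟩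

theorem add_fst (g h : Ext L R p) : (g + h).fst = g.fst + h.fst := rfl
theorem add_snd (g h : Ext L R p) :
    (g + h).snd = g.snd + h.snd - _root_.PLie.jacobson R p g.fst h.fst := rfl
theorem zero_fst : (0 : Ext L R p).fst = 0 := rfl
theorem zero_snd : (0 : Ext L R p).snd = 0 := rfl
theorem neg_fst (g : Ext L R p) : (-g).fst = -g.fst := rfl
theorem neg_snd (g : Ext L R p) : (-g).snd = -g.snd := rfl
theorem smul_fst (c : R) (g : Ext L R p) : (c • g).fst = c • g.fst := rfl
theorem smul_snd (c : R) (g : Ext L R p) : (c • g).snd = c ^ p • g.snd := rfl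

theorem jac_neg_self (x : L) : _root_.PLie.jacobson R p (-x) x = 0 := by
  have := jac_smul_same R p (-1) 1 x
  simpa using this

noncomputable instance : AddCommGroup (Ext L R p) where
  add_assoc g h k := by
    refine Ext.ext ?_ ?_
    · simp only [add_fst, add_assoc]
    · simp only [add_snd, add_fst]
      have := jac_cocycle (R := R) p g.fst h.fst k.fst
      rw [eq_sub_iff_add_eq.mpr this]
      abel
  zero_add g := Ext.ext (by simp [add_fst, zero_fst])
    (by simp [add_snd, zero_fst, zero_snd, jac_zero_left])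
  add_zero g := Ext.ext (by simp [add_fst, zero_fst])
    (by simp [add_snd, zero_fst, zero_snd, jac_zero_right])
  neg_add_cancel g := Ext.ext (by simp [add_fst, neg_fst, zero_fst])
    (by simp [add_snd, neg_fst, neg_snd, zero_snd, jac_neg_self])
  add_comm g h := Ext.ext (by simp [add_fst, add_comm])
    (by simp only [add_snd]; rw [jac_comm p g.fst h.fst, add_comm g.snd])
  nsmul := nsmulRec
  zsmul := zsmulRec

noncomputable instance : Module R (Ext L R p) where
  one_smul g := Ext.ext (by simp [smul_fst]) (by simp [smul_snd])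
  mul_smul c d g := Ext.ext (by simp [smul_fst, smul_smul]) (by simp [smul_snd, smul_smul, mul_pow])
  smul_zero c := Ext.ext (by simp [smul_fst, zero_fst]) (by simp [smul_snd, zero_snd])
  zero_smul g := Ext.ext (by simp [smul_fst, zero_fst])
    (by simp [smul_snd, zero_snd, zero_pow (Fact.out : p.Prime).ne_zero])
  smul_add c g h := Ext.ext (by simp [smul_fst, add_fst])
    (by simp [smul_snd, add_snd, smul_fst, jac_smul, smul_sub])
  add_smul c d g := Ext.ext (by simp [smul_fst, add_fst, add_smul])
    (by simp [smul_snd, add_snd, smul_fst, jac_smul_same, add_pow_char, add_smul])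

variable (L) in
/-- the `ad`-compatible elements of the extension -/
noncomputable def compat : Submodule R (Ext L R p) where
  carrier := {g | LieAlgebra.ad R L g.snd = LieAlgebra.ad R L g.fst ^ p}
  zero_mem' := by
    change LieAlgebra.ad R L (0 : L) = LieAlgebra.ad R L (0 : L) ^ p
    rw [map_zero, zero_pow (Fact.out : p.Prime).ne_zero]
  add_mem' {g h} hg hh := by
    change LieAlgebra.ad R L (g + h).snd = LieAlgebra.ad R L (g + h).fst ^ p
    rw [add_snd, add_fst, map_sub, map_add, ad_jac, hg, hh]
    exact sub_sub_cancel _ _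
  smul_mem' c g hg := by
    change LieAlgebra.ad R L (c • g).snd = LieAlgebra.ad R L (c • g).fst ^ p
    rw [smul_snd, smul_fst, map_smul, map_smul, smul_pow, hg]

variable {R p} {ι : Type w}

/-- two `p`-maps agreeing on a basis are equal -/
theorem pmap_ext (b : Module.Basis ι R L) (φ ψ : _root_.PLie.PMap R p L)
    (h : ∀ i, φ (b i) = ψ (b i)) : φ = ψ := by
  have key : ∀ x, φ x = ψ x := by
    intro x
    induction b.mem_span x using Submodule.span_induction with
    | mem y hy => obtain ⟨i, rfl⟩ := hy; exact h i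
    | zero =>
      have h0 : ∀ χ : _root_.PLie.PMap R p L, χ 0 = 0 := fun χ => by
        have := χ.map_smul 0 0
        rwa [zero_smul, zero_pow (Fact.out : p.Prime).ne_zero, zero_smul] at this
      rw [h0 φ, h0 ψ]
    | add u v _ _ hu hv => rw [φ.map_add, ψ.map_add, hu, hv]
    | smul c u _ hu => rw [φ.map_smul, ψ.map_smul, hu]
  cases φ; cases ψ; congr; exact funext key

theorem exists_pmap (b : Module.Basis ι R L) (y : ι → L)
    (hy : ∀ i : ι, LieAlgebra.ad R L (b i) ^ p = LieAlgebra.ad R L (y i)) :
    ∃ φ : _root_.PLie.PMap R p L, ∀ i : ι, φ (b i) = y i := by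
  let s : L →ₗ[R] Ext L R p := b.constr R fun i => ⟨b i, y i⟩
  have hs : ∀ x, (s x).fst = x := by
    intro x
    induction b.mem_span x using Submodule.span_induction with
    | mem z hz => obtain ⟨i, rfl⟩ := hz; simp [s]
    | zero => rw [map_zero, zero_fst]
    | add u v _ _ hu hv => rw [map_add, add_fst, hu, hv]
    | smul c u _ hu => rw [map_smul, smul_fst, hu]
  have hc : ∀ x, s x ∈ compat R p L := by
    intro x
    induction b.mem_span x using Submodule.span_induction with
    | mem z hz =>
      obtain ⟨i, rfl⟩ := hz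
      simp only [s, Module.Basis.constr_basis]
      exact (hy i).symm
    | zero => rw [map_zero]; exact Submodule.zero_mem _
    | add u v _ _ hu hv => rw [map_add]; exact Submodule.add_mem _ hu hv
    | smul c u _ hu => rw [map_smul]; exact Submodule.smul_mem _ c hu
  refine ⟨⟨fun x => (s x).snd, fun c x => ?_, fun x => ?_, fun u v => ?_⟩, fun i => ?_⟩
  · rw [map_smul, smul_snd]
  · have := hc x
    change LieAlgebra.ad R L (s x).snd = LieAlgebra.ad R L (s x).fst ^ p at this
    rwa [hs] at this
  · rw [map_add, add_snd, hs, hs]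
  · simp [s]

theorem existsUnique_pmap (b : Module.Basis ι R L) (y : ι → L)
    (hy : ∀ i : ι, LieAlgebra.ad R L (b i) ^ p = LieAlgebra.ad R L (y i)) :
    ∃! φ : _root_.PLie.PMap R p L, ∀ i : ι, φ (b i) = y i :=
  (exists_pmap b y hy).elim fun φ hφ =>
    ⟨φ, hφ, fun ψ hψ => pmap_ext b ψ φ fun i => by rw [hψ i, hφ i]⟩

theorem nonempty_pmap_iff (b : Module.Basis ι R L) :
    Nonempty (_root_.PLie.PMap R p L) ↔
      ∀ i : ι, ∃ y : L, LieAlgebra.ad R L (b i) ^ p = LieAlgebra.ad R L y :=
  ⟨fun ⟨φ⟩ i => ⟨φ (b i), (φ.ad_map (b i)).symm⟩, fun h => by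
    choose y hy using h
    exact (exists_pmap b y hy).elim fun φ _ => ⟨φ⟩⟩

end Groth.Agent.PLie.Exist
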