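import Groth.Agent.PLie.Exist
import Mathlib.Algebra.Lie.Solvable
import Mathlib.Algebra.Lie.Normalizer
import Mathlib.Algebra.Lie.Engel

/-! The `p`-map and the radical / nilpotent ideals. -/

universe u v

namespace Groth.Agent.PLie.Ideal

variable {k : Type u} [Field k] {p : ℕ} [Fact p.Prime] [CharP k p]
variable {L : Type v} [LieRing L] [LieAlgebra k L]

theorem lie_pmap_mem (φ : _root_.PLie.PMap k p L) (I : LieIdeal k L) {x : L} (hx : x ∈ I) (l : L) :
    ⁅l, φ x⁆ ∈ I := by
  rw [← lie_skew, ← LieAlgebra.ad_apply k, φ.ad_map]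
  refine neg_mem ?_
  obtain ⟨q, hq⟩ : ∃ q, p = q + 1 := ⟨p - 1, (Nat.sub_add_cancel (Fact.out : p.Prime).one_lt.le).symm⟩
  rw [hq, pow_succ', Module.End.mul_apply, LieAlgebra.ad_apply]
  exact lie_mem_left k L I _ _ hx

theorem pmap_mem_radical [Module.Finite k L] (φ : _root_.PLie.PMap k p L) {x : L}
    (hx : x ∈ LieAlgebra.radical k L) : φ x ∈ LieAlgebra.radical k L := by
  let J : LieIdeal k L := (LieAlgebra.radical k L).normalizer
  have hJ : J ≤ LieAlgebra.radical k L := by
    refine (LieAlgebra.LieIdeal.solvable_iff_le_radical (R := k) (L := L) J).mp ?_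
    obtain ⟨n, hn⟩ := (LieAlgebra.isSolvable_iff k (LieAlgebra.radical k L)).mp inferInstance
    rw [LieIdeal.derivedSeries_eq_bot_iff] at hn
    rw [LieAlgebra.isSolvable_iff k]
    refine ⟨n + 1, (LieIdeal.derivedSeries_eq_bot_iff J (n + 1)).mpr (eq_bot_iff.mpr (le_trans ?_ hn.le))⟩
    rw [LieAlgebra.derivedSeriesOfIdeal_add _ n 1]
    refine LieAlgebra.derivedSeriesOfIdeal_le ?_ le_rfl
    rw [LieAlgebra.derivedSeriesOfIdeal_succ, LieAlgebra.derivedSeriesOfIdeal_zero, LieSubmodule.lie_le_iff]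
    exact fun a _ b hb => (LieSubmodule.mem_normalizer _ b).mp hb a
  exact hJ ((LieSubmodule.mem_normalizer _ _).mpr (lie_pmap_mem φ _ hx))

theorem isNilpotent_toEnd {N : LieIdeal k L} (hN : LieRing.IsNilpotent N) (n : N) :
    _root_.IsNilpotent (LieModule.toEnd k N L n) := by
  obtain ⟨K, hK⟩ := LieModule.isNilpotent_toEnd_of_isNilpotent k N N n
  refine ⟨K + 1, LinearMap.ext fun l => ?_⟩
  have key : ∀ (j : ℕ) (y : N), ((LieModule.toEnd k N L n) ^ j) (y : L) =
      (((LieModule.toEnd k N N n) ^ j) y : L) := by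
    intro j y
    induction j with
    | zero => rfl
    | succ j ih => rw [pow_succ', pow_succ', Module.End.mul_apply, Module.End.mul_apply, ih]; rfl
  rw [pow_succ, Module.End.mul_apply, LieModule.toEnd_apply_apply]
  exact (key K ⟨⁅(n : L), l⁆, lie_mem_left k L N _ _ n.2⟩).trans (by rw [hK]; rfl)

theorem pmap_mem_nilradical [Module.Finite k L] (φ : _root_.PLie.PMap k p L) (N : LieIdeal k L)
    (hN : LieRing.IsNilpotent N) (hmax : ∀ I : LieIdeal k L, LieRing.IsNilpotent I → I ≤ N)
    {x : L} (hx : x ∈ N) : φ x ∈ N := by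
  let J : LieIdeal k L :=
    { (N : Submodule k L) ⊔ Submodule.span k {φ x} with
      lie_mem := by
        intro l m hm
        obtain ⟨a, ha, b, hb, rfl⟩ := Submodule.mem_sup.mp hm
        obtain ⟨c, rfl⟩ := Submodule.mem_span_singleton.mp hb
        refine Submodule.mem_sup_left ?_
        rw [lie_add, lie_smul]
        exact add_mem (N.lie_mem ha) (Submodule.smul_mem _ c (lie_pmap_mem φ N hx l)) }
  have hnil : LieModule.IsNilpotent N L :=
    (LieModule.isNilpotent_iff_forall' (R := k)).mpr (isNilpotent_toEnd hN)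
  obtain ⟨K, hK⟩ := (LieModule.isNilpotent_iff k N L).mp hnil
  let C := LieModule.lowerCentralSeries k N L
  have step : ∀ (n : N) (i : ℕ), ∀ m ∈ C i, ⁅(n : L), m⁆ ∈ C (i + 1) := by
    intro n i m hm
    simp only [C, LieModule.lowerCentralSeries_succ]
    exact LieSubmodule.lie_mem_lie (LieSubmodule.mem_top n) hm
  have stepJ : ∀ y ∈ J, ∀ (i : ℕ), ∀ m ∈ C i, ⁅y, m⁆ ∈ C (i + 1) := by
    intro y hy i m hm
    obtain ⟨a, ha, b, hb, rfl⟩ := Submodule.mem_sup.mp hy
    obtain ⟨c, rfl⟩ := Submodule.mem_span_singleton.mp hb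
    rw [add_lie, smul_lie]
    refine add_mem (step ⟨a, ha⟩ i m hm) (Submodule.smul_mem _ c ?_)
    rw [← LieAlgebra.ad_apply k, φ.ad_map]
    have : ∀ j : ℕ, (LieAlgebra.ad k L x ^ j) m ∈ C (i + j) := by
      intro j
      induction j with
      | zero => simpa using hm
      | succ j ih => rw [pow_succ', Module.End.mul_apply]; exact step ⟨x, hx⟩ (i + j) _ ih
    exact LieModule.antitone_lowerCentralSeries k N L
      (Nat.add_le_add_left (Fact.out : p.Prime).one_lt.le i) (this p)
  have hJ : LieRing.IsNilpotent J := by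
    rw [LieAlgebra.isNilpotent_iff_forall (R := k)]
    intro y
    refine ⟨K, LinearMap.ext fun z => Subtype.ext ?_⟩
    have : ∀ j : ℕ, ((((LieAlgebra.ad k J y) ^ j) z : J) : L) ∈ C j := by
      intro j
      induction j with
      | zero => simp [C]
      | succ j ih => rw [pow_succ', Module.End.mul_apply]; exact stepJ _ y.2 j _ ih
    have h := this K
    simp only [C, hK, LieSubmodule.mem_bot] at h
    simpa using h
  exact hmax J hJ (Submodule.mem_sup_right (Submodule.subset_span rfl))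

theorem isNilpotent_of_pNilpotent [Module.Finite k L] (φ : _root_.PLie.PMap k p L)
    (I : LieIdeal k L) (hnil : ∀ x ∈ I, _root_.PLie.IsPNilpotent φ x) : LieRing.IsNilpotent I := by
  rw [LieAlgebra.isNilpotent_iff_forall (R := k)]
  intro y
  obtain ⟨n, hn⟩ := hnil _ y.2
  have key : ∀ n : ℕ, LieAlgebra.ad k L (φ.toFun^[n] (y : L)) = LieAlgebra.ad k L (y : L) ^ p ^ n := by
    intro n
    induction n with
    | zero => simp
    | succ n ih => rw [Function.iterate_succ_apply', φ.ad_map, ih, ← pow_mul, pow_succ]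
  have h0 : LieAlgebra.ad k L (y : L) ^ p ^ n = 0 := by rw [← key n, hn, map_zero]
  refine ⟨p ^ n, LinearMap.ext fun z => Subtype.ext ?_⟩
  have : ∀ j : ℕ, ((((LieAlgebra.ad k I y) ^ j) z : I) : L) = ((LieAlgebra.ad k L (y : L)) ^ j) (z : L) := by
    intro j
    induction j with
    | zero => rfl
    | succ j ih => rw [pow_succ', pow_succ', Module.End.mul_apply, Module.End.mul_apply, ← ih]; rfl
  rw [this, h0]; rfl

end Groth.Agent.PLie.Ideal
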