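import Groth.Prelude.Def_PLie
import Mathlib.Algebra.Polynomial.Derivative
import Mathlib.Algebra.Polynomial.Degree.Lemmas
import Mathlib.Algebra.Polynomial.AlgebraMap
import Mathlib.Algebra.Polynomial.Basis
import Mathlib.Data.Bool.Count
import Mathlib.Algebra.Lie.BaseChange
import Mathlib.Data.Nat.Choose.Dvd
import Mathlib.FieldTheory.Finite.Basic
import Mathlib.LinearAlgebra.Basis.Defs

/-! Jacobson's formula in associative algebras and the identities of Jacobson's sum in Lie algebras. -/

universe u v w

open scoped TensorProduct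
open Polynomial

namespace Groth.Agent.PLie.Jacobson

attribute [local instance 100] LieRing.ofAssociativeRing

variable {R : Type u} [CommRing R]
variable {L : Type v} [LieRing L] [LieAlgebra R L]

theorem bracketWord_map {L' : Type w} [LieRing L'] [LieAlgebra R L'] (f : L →ₗ⁅R⁆ L') {ι : Type*}
    (x : ι → L) (z : L) (w : List ι) :
    f (_root_.PLie.bracketWord x z w) = _root_.PLie.bracketWord (fun i => f (x i)) (f z) w := by
  induction w with
  | nil => rfl
  | cons i w ih => simp [ih]

theorem pair_map {L' : Type w} [LieRing L'] [LieAlgebra R L'] (f : L →ₗ⁅R⁆ L') (a b : L) :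
    (fun i => f (_root_.PLie.pair a b i)) = _root_.PLie.pair (f a) (f b) := by
  funext i; cases i <;> rfl

theorem bracketWord_smul {ι : Type*} (c : ι → R) (x : ι → L) (d : R) (z : L) (w : List ι) :
    _root_.PLie.bracketWord (fun i => c i • x i) (d • z) w =
      ((w.map c).prod * d) • _root_.PLie.bracketWord x z w := by
  induction w with
  | nil => simp
  | cons i w ih => simp [ih, smul_smul]; congr 1; ring

theorem bracketWord_zero_right {ι : Type*} (x : ι → L) (w : List ι) :
    _root_.PLie.bracketWord x 0 w = 0 := by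
  induction w with
  | nil => rfl
  | cons i w ih => simp [ih]

theorem bracketWord_eq_zero {ι : Type*} (x : ι → L) (z : L) (w : List ι) (i : ι) (hi : i ∈ w)
    (hx : x i = 0) : _root_.PLie.bracketWord x z w = 0 := by
  induction w with
  | nil => simp at hi
  | cons j w ih =>
    rcases List.mem_cons.mp hi with rfl | h
    · simp [hx]
    · simp [ih h]

theorem bracketWord_all_eq {ι : Type*} (x : ι → L) (z : L) (w : List ι) (hw : w ≠ [])
    (hx : ∀ i ∈ w, x i = z) : _root_.PLie.bracketWord x z w = 0 := by
  induction w with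
  | nil => exact absurd rfl hw
  | cons j w ih =>
    by_cases h : w = []
    · simp [h, hx j (by simp)]
    · simp [ih h (fun i hi => hx i (List.mem_cons_of_mem _ hi))]

theorem iterate_lie_add (a b z : L) (n : ℕ) : (fun y => ⁅a + b, y⁆)^[n] z =
    ∑ t : Fin n → Bool, _root_.PLie.bracketWord (_root_.PLie.pair a b) z (List.ofFn t) := by
  induction n with
  | zero => simp
  | succ n ih =>
    rw [Function.iterate_succ_apply', ih, ← (Fin.consEquiv (fun _ => Bool)).sum_comp,
      Fintype.sum_prod_type, Fintype.sum_bool]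
    simp [Fin.consEquiv, List.ofFn_succ, _root_.PLie.pair, lie_sum, Finset.sum_add_distrib, add_lie,
      add_comm]

/-- number of `false` values -/
def nF {n : ℕ} (t : Fin n → Bool) : ℕ := Fintype.card {i // t i = false}

theorem count_true_add_nF {n : ℕ} (t : Fin n → Bool) : (List.ofFn t).count true + nF t = n := by
  induction n with
  | zero => simp [nF]
  | succ n ih =>
    have h := ih (fun i => t i.succ)
    simp only [nF, Fintype.card_subtype, List.ofFn_succ] at h ⊢
    rw [Fin.card_filter_univ_succ]
    cases ht : t 0 <;> simp [ht, Function.comp_def] at h ⊢ <;> omega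

theorem count_false_eq {n : ℕ} (t : Fin n → Bool) : (List.ofFn t).count false = nF t := by
  have h := count_true_add_nF t
  have h2 := List.count_false_add_count_true (List.ofFn t)
  rw [List.length_ofFn] at h2
  omega

variable (R) (p : ℕ) [CharP R p]

/-- coefficient in Jacobson's sum -/
noncomputable def coef (t : Fin (p - 1) → Bool) : R :=
  (ZMod.castHom (dvd_refl p) R) ((nF t : ZMod p)⁻¹)

theorem jac_def (a b : L) : _root_.PLie.jacobson R p a b =
    ∑ t : Fin (p - 1) → Bool,
      coef R p t • _root_.PLie.bracketWord (_root_.PLie.pair a b) b (List.ofFn t) := rfl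

theorem jac_map {L' : Type w} [LieRing L'] [LieAlgebra R L'] (f : L →ₗ⁅R⁆ L') (a b : L) :
    f (_root_.PLie.jacobson R p a b) = _root_.PLie.jacobson R p (f a) (f b) := by
  rw [jac_def, jac_def, map_sum]
  refine Finset.sum_congr rfl fun t _ => ?_
  rw [map_smul, bracketWord_map, pair_map]

variable [hp : Fact p.Prime]

theorem one_le_p : 1 ≤ p := hp.out.one_lt.le

theorem coef_eq_zero {t : Fin (p - 1) → Bool} (h : nF t = 0) : coef R p t = 0 := by
  simp [coef, h]

theorem nF_le (t : Fin (p - 1) → Bool) : nF t ≤ p - 1 := by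
  have := count_true_add_nF t; omega

theorem natCast_mul_inv {n : ℕ} (h0 : n ≠ 0) (hn : n < p) :
    (n : R) * (ZMod.castHom (dvd_refl p) R) ((n : ZMod p)⁻¹) = 1 := by
  have h : (n : ZMod p) ≠ 0 := by
    rw [Ne, ZMod.natCast_eq_zero_iff]
    exact fun hd => absurd (Nat.le_of_dvd (Nat.pos_of_ne_zero h0) hd) (by omega)
  rw [← map_natCast (ZMod.castHom (dvd_refl p) R) n, ← map_mul, mul_inv_cancel₀ h, map_one]

theorem coef_mul {t : Fin (p - 1) → Bool} (h : nF t ≠ 0) :
    coef R p t * (((List.ofFn t).count true + 1 : ℕ) : R) = -1 := by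
  have h1 := count_true_add_nF t
  have h2 : (((List.ofFn t).count true + 1 : ℕ) : R) = -(nF t : R) := by
    rw [eq_neg_iff_add_eq_zero, ← Nat.cast_add, show (List.ofFn t).count true + 1 + nF t = p by
      have := one_le_p p; omega, CharP.cast_eq_zero]
  rw [h2, mul_neg, mul_comm, coef, natCast_mul_inv R p h (by have := nF_le p t; have := one_le_p p; omega)]

theorem jac_smul (c : R) (a b : L) :
    _root_.PLie.jacobson R p (c • a) (c • b) = c ^ p • _root_.PLie.jacobson R p a b := by
  rw [jac_def, jac_def, Finset.smul_sum]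
  refine Finset.sum_congr rfl fun t _ => ?_
  have hf : _root_.PLie.pair (c • a) (c • b) = fun i => c • _root_.PLie.pair a b i := by
    funext i; cases i <;> rfl
  rw [hf, bracketWord_smul (fun _ => c) _ c b, smul_comm]
  congr 2
  rw [List.map_const', List.prod_replicate, List.length_ofFn, ← pow_succ,
    Nat.sub_add_cancel (one_le_p p)]

theorem jac_zero_right (a : L) : _root_.PLie.jacobson R p a 0 = 0 := by
  rw [jac_def]; simp [bracketWord_zero_right]

theorem jac_zero_left (b : L) : _root_.PLie.jacobson R p 0 b = 0 := by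
  rw [jac_def]
  refine Finset.sum_eq_zero fun t _ => ?_
  by_cases h : nF t = 0
  · rw [coef_eq_zero R p h, zero_smul]
  · rw [bracketWord_eq_zero _ _ _ false ?_ rfl, smul_zero]
    rw [← List.count_pos_iff, count_false_eq]; omega

theorem jac_smul_same (c d : R) (x : L) : _root_.PLie.jacobson R p (c • x) (d • x) = 0 := by
  rw [jac_def]
  refine Finset.sum_eq_zero fun t _ => ?_
  have hf : _root_.PLie.pair (c • x) (d • x) = fun i => (if i then d else c) • x := by
    funext i; cases i <;> rfl
  rw [hf, bracketWord_smul (fun i : Bool => if i then d else c) (fun _ => x) d x,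
    bracketWord_all_eq _ _ _ ?_ (fun _ _ => rfl), smul_zero, smul_zero]
  intro h
  have := congrArg List.length h
  simp at this
  have := hp.out.two_le
  omega

section assoc

variable {A : Type w} [Ring A] [Algebra R A]

theorem choose_pred (m : ℕ) (hm : m < p) : ((p - 1).choose m : R) = (-1) ^ m := by
  induction m with
  | zero => simp
  | succ m ih =>
    have h1 : p.choose (m + 1) = (p - 1).choose m + (p - 1).choose (m + 1) := by
      conv_lhs => rw [← Nat.sub_add_cancel (one_le_p p)]
      rw [Nat.choose_succ_succ]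
    have h2 : (p.choose (m + 1) : R) = 0 :=
      (CharP.cast_eq_zero_iff R p _).mpr (hp.out.dvd_choose_self (by omega) hm)
    rw [h1, Nat.cast_add, ih (by omega), add_eq_zero_iff_eq_neg'] at h2
    rw [h2, pow_succ]; ring

theorem neg_one_pow_pred : (-1 : R) ^ (p - 1) = 1 := by
  rw [← choose_pred R p (p - 1) (by have := one_le_p p; omega), Nat.choose_self, Nat.cast_one]

theorem sub_pow_pred {E : Type*} [Ring E] [Algebra R E] {x y : E} (h : Commute x y) :
    (x - y) ^ (p - 1) = ∑ m ∈ Finset.range (p - 1 + 1), x ^ m * y ^ (p - 1 - m) := by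
  rw [sub_eq_add_neg, h.neg_right.add_pow]
  refine Finset.sum_congr rfl fun m hm => ?_
  rw [Finset.mem_range] at hm
  rw [neg_pow y, ← map_natCast (algebraMap R E), choose_pred R p m (show m < p by have := one_le_p p; omega),
    show ((-1 : E) ^ (p - 1 - m)) = algebraMap R E ((-1) ^ (p - 1 - m)) by simp,
    ← Algebra.commutes, Algebra.commutes ((-1 : R) ^ (p - 1 - m)) (y ^ _),
    ← mul_assoc (x ^ m), ← Algebra.commutes, ← mul_assoc, ← map_mul, ← pow_add,
    show m + (p - 1 - m) = p - 1 by omega, neg_one_pow_pred R p, map_one, one_mul]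

theorem derivative_pow_succ' (f : A[X]) (n : ℕ) : derivative (f ^ (n + 1)) =
    ∑ m ∈ Finset.range (n + 1), f ^ m * derivative f * f ^ (n - m) := by
  induction n with
  | zero => simp
  | succ n ih =>
    rw [pow_succ f (n + 1), derivative_mul, ih, Finset.sum_range_succ _ (n + 1), Nat.sub_self,
      pow_zero, mul_one, Finset.sum_mul]
    congr 1
    refine Finset.sum_congr rfl fun m hm => ?_
    rw [Finset.mem_range] at hm
    rw [mul_assoc _ (f ^ (n - m)) f, ← pow_succ, show n - m + 1 = n + 1 - m by omega]

include R in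
theorem derivative_pow_p (f : A[X]) :
    derivative (f ^ p) = (fun y => ⁅f, y⁆)^[p - 1] (derivative f) := by
  have h : (fun y => ⁅f, y⁆) = ⇑(LinearMap.mulLeft R f - LinearMap.mulRight R f) := by
    funext y; simp [Ring.lie_def]
  conv_lhs => rw [← Nat.sub_add_cancel (one_le_p p)]
  rw [derivative_pow_succ', h, ← Module.End.coe_pow,
    sub_pow_pred R p (LinearMap.commute_mulLeft_right f f), LinearMap.sum_apply]
  simp [LinearMap.pow_mulLeft, LinearMap.pow_mulRight, mul_assoc]

omit hp in
theorem lie_C_X_pow (a W : A) (i j : ℕ) :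
    ⁅X ^ i * C a, X ^ j * C W⁆ = X ^ (i + j) * C ⁅a, W⁆ := by
  rw [Ring.lie_def, Ring.lie_def, map_sub, map_mul, map_mul, mul_sub, pow_add]
  simp only [mul_assoc, X_pow_mul_assoc]
  rw [← mul_assoc (C a), ← X_pow_mul, ← mul_assoc (C W), ← X_pow_mul]
  simp only [← mul_assoc, ← pow_add, add_comm]

omit hp in
theorem bracketWord_poly (a b : A) (w : List Bool) :
    _root_.PLie.bracketWord (_root_.PLie.pair (C a) (X * C b)) (C b) w =
      X ^ w.count true * C (_root_.PLie.bracketWord (_root_.PLie.pair a b) b w) := by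
  induction w with
  | nil => simp
  | cons i w ih =>
    rw [_root_.PLie.bracketWord_cons, _root_.PLie.bracketWord_cons, ih]
    cases i
    · have := lie_C_X_pow a (_root_.PLie.bracketWord (_root_.PLie.pair a b) b w) 0 (w.count true)
      rw [pow_zero, one_mul, zero_add] at this
      rw [List.count_cons_of_ne (by decide)]
      exact this
    · have := lie_C_X_pow b (_root_.PLie.bracketWord (_root_.PLie.pair a b) b w) 1 (w.count true)
      rw [pow_one, add_comm] at this
      rw [List.count_cons_self]
      exact this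

theorem add_pow_char' (a b : A) :
    (a + b) ^ p = a ^ p + b ^ p - _root_.PLie.jacobson R p a b := by
  have hp1 := one_le_p p
  let W := fun t : Fin (p - 1) → Bool =>
    _root_.PLie.bracketWord (_root_.PLie.pair a b) b (List.ofFn t)
  let e := fun t : Fin (p - 1) → Bool => (List.ofFn t).count true
  let Q : A[X] := ∑ t, coef R p t • (X ^ (e t + 1) * C (W t))
  have hW : ∀ t, nF t = 0 → W t = 0 := by
    intro t ht
    refine bracketWord_all_eq _ _ _ ?_ ?_
    · intro h
      have := congrArg List.length h
      simp at this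
      have := hp.out.two_le
      omega
    · intro i hi
      have h0 : false ∉ List.ofFn t := by rw [← List.count_eq_zero, count_false_eq, ht]
      cases i
      · exact absurd hi h0
      · rfl
  have he : ∀ t, e t + 1 ≤ p := fun t => by
    have := count_true_add_nF t
    simp only [e]; omega
  let D : A[X] := (C a + X * C b) ^ p - C (a ^ p) - X ^ p * C (b ^ p) + Q
  have hd : derivative D = 0 := by
    have h1 : derivative ((C a + X * C b) ^ p) = ∑ t, X ^ e t * C (W t) := by
      rw [derivative_pow_p R p, show derivative (C a + X * C b) = C b by simp [derivative_mul],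
        iterate_lie_add]
      simp only [bracketWord_poly]
      rfl
    have h2 : derivative Q = -∑ t, X ^ e t * C (W t) := by
      rw [map_sum, ← Finset.sum_neg_distrib]
      refine Finset.sum_congr rfl fun t _ => ?_
      rw [derivative_smul, derivative_mul, derivative_C, mul_zero, add_zero, derivative_X_pow,
        Nat.add_sub_cancel]
      by_cases h : nF t = 0
      · simp [hW t h]
      · rw [map_natCast, ← map_natCast (algebraMap R A[X]) (e t + 1), ← Algebra.smul_def,
          smul_mul_assoc, smul_smul, coef_mul R p h, neg_one_smul]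
    have h3 : derivative (X ^ p * C (b ^ p)) = 0 := by
      have h0 : ((p : ℕ) : A) = 0 := by
        rw [← map_natCast (algebraMap R A) p, CharP.cast_eq_zero, map_zero]
      rw [derivative_mul, derivative_C, mul_zero, add_zero, derivative_X_pow, h0]; simp
    simp only [D, map_add, map_sub, h1, h2, h3, derivative_C, sub_zero, add_neg_cancel]
  have hQ0 : Q.coeff 0 = 0 := by
    rw [finsetSum_coeff]
    exact Finset.sum_eq_zero fun t _ => by simp [coeff_X_pow_mul']
  have hQp : Q.coeff p = 0 := by
    rw [finsetSum_coeff]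
    refine Finset.sum_eq_zero fun t _ => ?_
    by_cases h : nF t = 0
    · simp [coef_eq_zero R p h]
    · have : e t + 1 ≠ p := by
        have := count_true_add_nF t
        simp only [e]; omega
      rw [coeff_smul, coeff_X_pow_mul']
      split
      · rw [coeff_C, if_neg (by omega), smul_zero]
      · rw [smul_zero]
  have hX : (C a + X * C b).natDegree ≤ 1 := by
    refine (natDegree_add_le _ _).trans ?_
    rw [max_le_iff, natDegree_C]
    exact ⟨zero_le_one, natDegree_mul_le.trans (by simp [natDegree_X_le])⟩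
  have hdeg : D.natDegree ≤ p := by
    rw [natDegree_le_iff_coeff_eq_zero]
    intro n hn
    have h1 : ((C a + X * C b) ^ p).coeff n = 0 :=
      coeff_eq_zero_of_natDegree_lt (lt_of_le_of_lt (natDegree_pow_le.trans
        (Nat.mul_le_mul_left p hX)) (by omega))
    have h2 : Q.coeff n = 0 := by
      rw [finsetSum_coeff]
      refine Finset.sum_eq_zero fun t _ => ?_
      have := he t
      rw [coeff_smul, coeff_X_pow_mul']
      split
      · rw [coeff_C, if_neg (by omega), smul_zero]
      · rw [smul_zero]
    simp only [D, coeff_add, coeff_sub, h1, h2, coeff_C, coeff_X_pow_mul']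
    rw [if_neg (by omega), if_pos (by omega), if_neg (by omega)]
    simp
  have hD : D = 0 := by
    ext n
    rw [coeff_zero]
    rcases Nat.lt_trichotomy n p with hn | rfl | hn
    · rcases Nat.eq_zero_or_pos n with rfl | hn0
      · have h1 : ((C a + X * C b) ^ p).coeff 0 = a ^ p := by
          rw [← constantCoeff_apply, map_pow]; simp
        simp only [D, coeff_add, coeff_sub, h1, hQ0, coeff_C, coeff_X_pow_mul']
        simp [show ¬ p ≤ 0 by omega]
      · have h1 := coeff_derivative D (n - 1)
        rw [hd, coeff_zero, Nat.sub_add_cancel hn0] at h1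
        rw [show ((n - 1 : ℕ) : A) + 1 = ((n : ℕ) : A) by
          rw [← Nat.cast_succ]; congr 1; omega, ← map_natCast (algebraMap R A) n] at h1
        have h2 := congrArg (fun z => z * algebraMap R A
          ((ZMod.castHom (dvd_refl p) R) ((n : ZMod p)⁻¹))) h1.symm
        simpa only [mul_assoc, ← map_mul, natCast_mul_inv R p hn0.ne' hn, map_one, mul_one,
          zero_mul] using h2
    · have h1 : ((C a + X * C b) ^ n).coeff n = b ^ n := by
        have := coeff_pow_of_natDegree_le (m := n) hX
        rw [mul_one] at this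
        rw [this]; simp
      simp only [D, coeff_add, coeff_sub, h1, hQp, coeff_C, coeff_X_pow_mul']
      simp [show n ≠ 0 by omega]
    · exact coeff_eq_zero_of_natDegree_lt (by omega)
  let ev : A[X] →+* A := eval₂RingHom' (RingHom.id A) 1 (fun x => Commute.one_right x)
  have hev : ev D = (a + b) ^ p - a ^ p - b ^ p + _root_.PLie.jacobson R p a b := by
    have hC : ∀ z, ev (C z) = z := fun z => by simp [ev, eval₂RingHom']
    have hX' : ev X = 1 := by simp [ev, eval₂RingHom']
    simp only [D, Q, map_add, map_sub, map_pow, map_mul, hC, hX', one_mul, one_pow, map_sum,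
      Algebra.smul_def, algebraMap_apply]
    rw [jac_def]
    simp [W, Algebra.smul_def]
  rw [hD, map_zero] at hev
  rw [eq_sub_iff_add_eq, ← sub_eq_zero, hev]
  abel

theorem jac_cocycle_assoc (a b c : A) :
    _root_.PLie.jacobson R p a b + _root_.PLie.jacobson R p (a + b) c =
      _root_.PLie.jacobson R p a (b + c) + _root_.PLie.jacobson R p b c := by
  have e : ∀ u v : A, _root_.PLie.jacobson R p u v = u ^ p + v ^ p - (u + v) ^ p :=
    fun u v => by rw [add_pow_char' R p u v]; exact (sub_sub_cancel _ _).symm
  rw [e, e, e, e, add_assoc a b c]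
  abel

end assoc

section descent

/-- polynomials of degree `≤ d` with coefficients in `L` -/
noncomputable def Low (d : ℕ) : Submodule R (R[X] ⊗[R] L) :=
  Submodule.span R {z | ∃ n, n ≤ d ∧ ∃ x : L, ((X : R[X]) ^ n) ⊗ₜ[R] x = z}

variable {R p}

theorem t_lie_add (x y z : R[X] ⊗[R] L) : ⁅x, y + z⁆ = ⁅x, y⁆ + ⁅x, z⁆ := lie_add x y z
theorem t_add_lie (x y z : R[X] ⊗[R] L) : ⁅x + y, z⁆ = ⁅x, z⁆ + ⁅y, z⁆ := add_lie x y z
theorem t_lie_zero (x : R[X] ⊗[R] L) : ⁅x, (0 : R[X] ⊗[R] L)⁆ = 0 := lie_zero x
theorem t_zero_lie (x : R[X] ⊗[R] L) : ⁅(0 : R[X] ⊗[R] L), x⁆ = 0 := zero_lie x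
theorem t_lie_smul (c : R) (x y : R[X] ⊗[R] L) : ⁅x, c • y⁆ = c • ⁅x, y⁆ := lie_smul c x y
theorem t_smul_lie (c : R) (x y : R[X] ⊗[R] L) : ⁅c • x, y⁆ = c • ⁅x, y⁆ := smul_lie c x y

theorem tmul_mem_low {d n : ℕ} (h : n ≤ d) (x : L) :
    ((X : R[X]) ^ n) ⊗ₜ[R] x ∈ Low R d :=
  Submodule.subset_span ⟨n, h, x, rfl⟩

theorem one_tmul_mem_low {d : ℕ} (x : L) : (1 : R[X]) ⊗ₜ[R] x ∈ Low R d := by
  simpa using tmul_mem_low (R := R) (Nat.zero_le d) x

theorem X_tmul_mem_low (x : L) : (X : R[X]) ⊗ₜ[R] x ∈ Low R 1 := by
  simpa using tmul_mem_low (R := R) (le_refl 1) x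

theorem low_mono {d d' : ℕ} (h : d ≤ d') : Low (L := L) R d ≤ Low R d' :=
  Submodule.span_mono fun _ ⟨n, hn, hx⟩ => ⟨n, hn.trans h, hx⟩

theorem lie_mem_low {i j : ℕ} {y z : R[X] ⊗[R] L} (hy : y ∈ Low R i) (hz : z ∈ Low R j) :
    ⁅y, z⁆ ∈ Low R (i + j) := by
  induction hy using Submodule.span_induction with
  | mem y hy =>
    obtain ⟨n, hn, a, rfl⟩ := hy
    induction hz using Submodule.span_induction with
    | mem z hz =>
      obtain ⟨m, hm, b, rfl⟩ := hz
      rw [LieAlgebra.ExtendScalars.bracket_tmul, ← pow_add]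
      exact tmul_mem_low (by omega) _
    | zero => simp [t_lie_zero, t_zero_lie]
    | add u v _ _ hu hv => rw [t_lie_add]; exact add_mem hu hv
    | smul c u _ hu => rw [t_lie_smul]; exact Submodule.smul_mem _ c hu
  | zero => simp [t_lie_zero, t_zero_lie]
  | add u v _ _ hu hv => rw [t_add_lie]; exact add_mem hu hv
  | smul c u _ hu => rw [t_smul_lie]; exact Submodule.smul_mem _ c hu

theorem bracketWord_mem_low {i j : ℕ} {y z : R[X] ⊗[R] L} (hy : y ∈ Low R i) (hz : z ∈ Low R j)
    (w : List Bool) : _root_.PLie.bracketWord (_root_.PLie.pair y z) z w ∈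
      Low R (w.count false * i + (w.count true + 1) * j) := by
  induction w with
  | nil => simpa using hz
  | cons b w ih =>
    cases b
    · refine low_mono (le_of_eq ?_) (lie_mem_low hy ih); simp; ring
    · refine low_mono (le_of_eq ?_) (lie_mem_low hz ih); simp; ring

theorem jac_mem_low {i j : ℕ} (hij : i + j ≤ 1) {y z : R[X] ⊗[R] L} (hy : y ∈ Low R i)
    (hz : z ∈ Low R j) : _root_.PLie.jacobson R p y z ∈ Low R (p - 1) := by
  rw [jac_def]
  refine Submodule.sum_mem _ fun t _ => ?_
  by_cases h : nF t = 0
  · rw [coef_eq_zero R p h, zero_smul]; exact Submodule.zero_mem _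
  refine Submodule.smul_mem _ _ (low_mono ?_ (bracketWord_mem_low hy hz _))
  have := count_true_add_nF t
  rw [count_false_eq]
  rcases Nat.eq_zero_or_pos i with rfl | hi
  · rcases Nat.eq_zero_or_pos j with rfl | hj
    · simp
    · obtain rfl : j = 1 := by omega
      omega
  · obtain ⟨rfl, rfl⟩ : i = 1 ∧ j = 0 := by omega
    omega

/-- evaluation of the parameter -/
noncomputable def evalLie (s : R) : R[X] ⊗[R] L →ₗ⁅R⁆ L :=
  { TensorProduct.lift ((LinearMap.lsmul R L).comp (aeval s).toLinearMap) with
    map_lie' := by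
      intro y z
      simp only [AddHom.toFun_eq_coe, LinearMap.coe_toAddHom]
      induction y using TensorProduct.induction_on with
      | zero => simp [t_lie_zero, t_zero_lie]
      | add u v hu hv => simp only [t_add_lie, add_lie, map_add, hu, hv]
      | tmul f a =>
        induction z using TensorProduct.induction_on with
        | zero => simp [t_lie_zero, t_zero_lie]
        | add u v hu hv => simp only [t_lie_add, lie_add, map_add, hu, hv]
        | tmul g b => simp [smul_smul, mul_comm] }

theorem evalLie_tmul (s : R) (f : R[X]) (x : L) : evalLie (L := L) s (f ⊗ₜ[R] x) = f.eval s • x := by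
  change aeval s f • x = _
  rw [coe_aeval_eq_eval]

/-- Euler derivation in the parameter -/
noncomputable def euler : R[X] ⊗[R] L →ₗ[R] R[X] ⊗[R] L :=
  ((LinearMap.mulLeft R (X : R[X])).comp derivative).rTensor L

theorem euler_lie (y z : R[X] ⊗[R] L) : euler ⁅y, z⁆ = ⁅euler y, z⁆ + ⁅y, euler z⁆ := by
  induction y using TensorProduct.induction_on with
  | zero => simp [t_lie_zero, t_zero_lie]
  | add u v hu hv => simp only [t_add_lie, map_add, hu, hv]; abel
  | tmul f a =>
    induction z using TensorProduct.induction_on with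
    | zero => simp [t_lie_zero, t_zero_lie]
    | add u v hu hv => simp only [t_lie_add, map_add, hu, hv]; abel
    | tmul g b =>
      simp [euler, derivative_mul, mul_add, ← TensorProduct.add_tmul]
      congr 1; ring

/-- the representation on `L[T] × R` detecting the Euler derivation -/
noncomputable def rep : (R[X] ⊗[R] L) →ₗ⁅R⁆ Module.End R ((R[X] ⊗[R] L) × R) where
  toFun y := (LinearMap.inl R _ R).comp
    ((LieAlgebra.ad R _ y).comp (LinearMap.fst R _ R) - (LinearMap.snd R _ R).smulRight (euler y))
  map_add' y z := by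
    refine LinearMap.ext fun q => ?_
    ext <;> simp [add_lie]
    abel
  map_smul' c y := by
    refine LinearMap.ext fun q => ?_
    ext <;> simp [smul_lie, smul_sub, smul_comm q.2 c]
  map_lie' {y z} := by
    refine LinearMap.ext fun q => ?_
    rw [Ring.lie_def]
    ext <;> simp [euler_lie, lie_sub]
    rw [← lie_skew z (euler y)]
    simp only [smul_add, smul_neg]
    abel

/-- the linear functional inverting the Euler derivation below degree `p` -/
noncomputable def invDeg (R : Type u) [CommRing R] (p : ℕ) [CharP R p] : R[X] →ₗ[R] R :=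
  (Polynomial.basisMonomials R).constr R fun n => (ZMod.castHom (dvd_refl p) R) ((n : ZMod p)⁻¹)

theorem invDeg_X_pow (n : ℕ) :
    invDeg R p ((X : R[X]) ^ n) = (ZMod.castHom (dvd_refl p) R) ((n : ZMod p)⁻¹) := by
  rw [X_pow_eq_monomial, show (monomial n (1 : R)) = Polynomial.basisMonomials R n by simp, invDeg,
    Module.Basis.constr_basis]

theorem eq_of_rep_eq_zero {y : R[X] ⊗[R] L} (hy : y ∈ Low R (p - 1)) (h : rep (R := R) (L := L) y = 0) :
    evalLie (L := L) (1 : R) y = evalLie (L := L) (0 : R) y := by
  have hD : euler y = 0 := by simpa [rep] using LinearMap.congr_fun h ((0, 1) : _ × R)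
  let Φ : R[X] ⊗[R] L →ₗ[R] L := TensorProduct.lift ((LinearMap.lsmul R L).comp (invDeg R p))
  have key : Φ (euler y) = evalLie (L := L) (1 : R) y - evalLie (L := L) (0 : R) y := by
    clear h hD
    induction hy using Submodule.span_induction with
    | mem z hz =>
      obtain ⟨n, hn, x, rfl⟩ := hz
      rcases Nat.eq_zero_or_pos n with rfl | hn0
      · simp [Φ, euler, evalLie_tmul]
      · have h1 : (X : R[X]) * derivative ((X : R[X]) ^ n) = (n : R) • (X : R[X]) ^ n := by
          rw [derivative_X_pow, smul_eq_C_mul, map_natCast, mul_left_comm, ← pow_succ',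
            Nat.sub_add_cancel hn0]
        simp only [Φ, euler, LinearMap.rTensor_tmul, LinearMap.comp_apply, LinearMap.mulLeft_apply,
          h1, TensorProduct.lift.tmul, map_smul, LinearMap.lsmul_apply, invDeg_X_pow, evalLie_tmul,
          eval_pow, eval_X, one_pow, one_smul, zero_pow hn0.ne', zero_smul, sub_zero]
        have := one_le_p p
        rw [LinearMap.smul_apply, LinearMap.lsmul_apply, smul_smul, natCast_mul_inv R p hn0.ne' (by omega : n < p), one_smul]
    | zero => simp
    | add u v _ _ hu hv => simp only [map_add, hu, hv]; abel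
    | smul c u _ hu => simp only [map_smul, hu, smul_sub]
  rw [hD, map_zero] at key
  exact sub_eq_zero.mp key.symm

variable (p)

theorem jac_comm (a b : L) :
    _root_.PLie.jacobson R p a b = _root_.PLie.jacobson R p b a := by
  let y : R[X] ⊗[R] L := (X : R[X]) ⊗ₜ[R] a
  let z : R[X] ⊗[R] L := (1 : R[X]) ⊗ₜ[R] b
  have hy : y ∈ Low R 1 := X_tmul_mem_low a
  have hz : z ∈ Low R 0 := one_tmul_mem_low b
  have h := eq_of_rep_eq_zero (p := p)
    (sub_mem (jac_mem_low (p := p) (le_refl 1) hy hz) (jac_mem_low (p := p) (le_refl 1) hz hy)) (by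
      have e := fun u v => add_pow_char' (R := R) p (A := Module.End R ((R[X] ⊗[R] L) × R)) u v
      have e1 := e (rep (R := R) (L := L) y) (rep (R := R) (L := L) z)
      have e2 := e (rep (R := R) (L := L) z) (rep (R := R) (L := L) y)
      rw [add_comm (rep (R := R) (L := L) z) (rep (R := R) (L := L) y), e1, add_comm (rep (R := R) (L := L) z ^ p), sub_right_inj] at e2
      rw [map_sub, jac_map, jac_map, e2, sub_self])
  simpa [jac_map, y, z, evalLie_tmul, jac_zero_left, jac_zero_right, sub_eq_zero] using h

theorem jac_cocycle (a b c : L) :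
    _root_.PLie.jacobson R p a b + _root_.PLie.jacobson R p (a + b) c =
      _root_.PLie.jacobson R p a (b + c) + _root_.PLie.jacobson R p b c := by
  let y : R[X] ⊗[R] L := (X : R[X]) ⊗ₜ[R] a
  let z : R[X] ⊗[R] L := (1 : R[X]) ⊗ₜ[R] b
  let w : R[X] ⊗[R] L := (1 : R[X]) ⊗ₜ[R] c
  have hy : y ∈ Low R 1 := X_tmul_mem_low a
  have hz : ∀ {d}, z ∈ Low R d := fun {d} => one_tmul_mem_low b
  have hw : ∀ {d}, w ∈ Low R d := fun {d} => one_tmul_mem_low c
  have h := eq_of_rep_eq_zero (p := p) (sub_mem
    (add_mem (jac_mem_low (p := p) (le_refl 1) hy (hz (d := 0)))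
      (jac_mem_low (p := p) (le_refl 1) (add_mem hy hz) (hw (d := 0))))
    (add_mem (jac_mem_low (p := p) (le_refl 1) hy (add_mem (hz (d := 0)) hw))
      (jac_mem_low (p := p) (Nat.zero_le 1) (hz (d := 0)) (hw (d := 0))))) (by
      rw [map_sub, map_add, map_add, jac_map, jac_map, jac_map, jac_map, map_add, map_add]
      exact sub_eq_zero.mpr (jac_cocycle_assoc R p (A := Module.End R ((R[X] ⊗[R] L) × R)) _ _ _))
  simpa [jac_map, y, z, w, evalLie_tmul, jac_zero_left, sub_eq_zero] using h

end descent

end Groth.Agent.PLie.Jacobson
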